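/-
Sharply four-transitive groups on eleven points and sharply five-transitive groups on twelve points are simple.
-/
import Cfsg.Agent.Lib.Golay.SimpleCriteria
import Cfsg.Prelude.Def_Sporadic

set_option autoImplicit false

namespace CfsgTwelve

open CfsgGolay

variable {α : Type*} [Fintype α] [DecidableEq α]

omit [Fintype α] [DecidableEq α] in
theorem centralizer_le_zpowers {G : Subgroup (Equiv.Perm α)} {Ω : Finset α} (h : TwoTransFaithful G Ω)
    (hΩ : Ω.card = 11) {x : G} (hx : orderOf x = 11) {c : G} (hc : Commute c x) : c ∈ Subgroup.zpowers x := by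
  classical
  obtain ⟨a, ha, hax⟩ : ∃ a ∈ Ω, (x : Equiv.Perm α) a ≠ a := by
    by_contra hn
    push Not at hn
    have : x = 1 := Subtype.ext (h.faithful x x.2 hn)
    rw [this, orderOf_one] at hx
    omega
  let f : Fin 11 → α := fun i => ((x : Equiv.Perm α) ^ (i : ℕ)) a
  have hinj : Function.Injective f := by
    intro i j e
    by_contra hne
    obtain ⟨d, hd0, hd11, hd⟩ : ∃ d, 0 < d ∧ d < 11 ∧ ((x : Equiv.Perm α) ^ d) a = a := by
      rcases lt_or_gt_of_ne (fun e' => hne (Fin.ext e')) with hlt | hlt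
      · refine ⟨(j : ℕ) - i, by omega, by omega, ?_⟩
        apply ((x : Equiv.Perm α) ^ (i : ℕ)).injective
        rw [← Equiv.Perm.mul_apply, ← pow_add, show (i : ℕ) + (j - i) = j by omega]
        exact e.symm
      · refine ⟨(i : ℕ) - j, by omega, by omega, ?_⟩
        apply ((x : Equiv.Perm α) ^ (j : ℕ)).injective
        rw [← Equiv.Perm.mul_apply, ← pow_add, show (j : ℕ) + (i - j) = i by omega]
        exact e
    obtain ⟨k, hk⟩ : ∃ k, d * k % 11 = 1 := by
      have hd' : d ∈ Finset.range 11 ∧ d ≠ 0 := ⟨Finset.mem_range.mpr hd11, by omega⟩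
      obtain ⟨k, -, hk⟩ := (by decide : ∀ d ∈ Finset.range 11, d ≠ 0 → ∃ k ∈ Finset.range 11, d * k % 11 = 1)
        d hd'.1 hd'.2
      exact ⟨k, hk⟩
    have h1 : ((x : Equiv.Perm α) ^ (d * k)) a = a := by
      rw [pow_mul]
      exact (Equiv.Perm.pow_apply_eq_self_of_apply_eq_self hd k)
    have h2 : x ^ (d * k) = x := by
      rw [← pow_mod_orderOf, hx, hk, pow_one]
    exact hax (by rwa [← SubgroupClass.coe_pow, h2] at h1)
  have himg : Finset.univ.image f = Ω := by
    refine Finset.eq_of_subset_of_card_le (fun y hy => ?_) ?_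
    · obtain ⟨i, -, rfl⟩ := Finset.mem_image.mp hy
      exact h.mapsTo _ (pow_mem x.2 _) a ha
    · rw [Finset.card_image_of_injective _ hinj, hΩ]; rfl
  obtain ⟨i, -, hi⟩ := Finset.mem_image.mp (himg.symm ▸ h.mapsTo c c.2 a ha)
  have hci : c = x ^ (i : ℕ) := by
    refine (inv_mul_eq_one.mp (Subtype.ext (h.faithful _ ((x ^ (i : ℕ))⁻¹ * c).2 fun y hy => ?_))).symm
    obtain ⟨j, -, rfl⟩ := Finset.mem_image.mp (himg.symm ▸ hy)
    have hcm : Commute ((x ^ (i : ℕ))⁻¹ * c) (x ^ (j : ℕ)) :=
      (((Commute.refl x).pow_left (i : ℕ)).inv_left.mul_left hc).pow_right _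
    have h0 : (((x ^ (i : ℕ))⁻¹ * c : G) : Equiv.Perm α) a = a := by
      simp [← hi, f]
    calc (((x ^ (i : ℕ))⁻¹ * c : G) : Equiv.Perm α) (f j)
        = (((x ^ (i : ℕ))⁻¹ * c * x ^ (j : ℕ) : G) : Equiv.Perm α) a := by simp [f]
      _ = ((x ^ (j : ℕ) * ((x ^ (i : ℕ))⁻¹ * c) : G) : Equiv.Perm α) a := by rw [hcm.eq]
      _ = f j := by rw [Subgroup.coe_mul, Equiv.Perm.mul_apply, h0, SubgroupClass.coe_pow]
  rw [hci]
  exact pow_mem (Subgroup.mem_zpowers x) _

omit [DecidableEq α] in
theorem simple_eleven {G : Subgroup (Equiv.Perm α)} {Ω : Finset α} (h : TwoTransFaithful G Ω)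
    (hΩ : Ω.card = 11) (hG : Nat.card G = 7920) : IsSimpleGroup G := by
  classical
  haveI : Fact (Nat.Prime 11) := ⟨by norm_num⟩
  have := h.nontrivial
  refine ⟨fun N hN => ?_⟩
  rcases eq_or_ne N ⊥ with hb | hb
  · exact Or.inl hb
  refine Or.inr ?_
  obtain ⟨a, ha⟩ := Finset.card_pos.mp (lt_of_lt_of_le two_pos h.two_le)
  have dvd11 : ∀ (K : Subgroup G), K.Normal → K ≠ ⊥ → 11 ∣ Nat.card K := by
    intro K hK hK0
    have horb : MulAction.orbit K a = (Ω : Set α) := by
      ext x
      constructor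
      · rintro ⟨⟨n, hn⟩, rfl⟩; exact h.mapsTo _ n.2 a ha
      · intro hx; obtain ⟨n, hn, rfl⟩ := h.normal_transitive K hK0 ha hx; exact ⟨⟨n, hn⟩, rfl⟩
    rw [← hΩ, ← Set.ncard_coe_finset, ← horb, ← MulAction.index_stabilizer]
    exact Subgroup.index_dvd_card _
  obtain ⟨x₀, hx₀⟩ := exists_prime_orderOf_dvd_card' 11 (dvd11 N hN hb)
  have hx : orderOf (x₀ : G) = 11 := (orderOf_injective N.subtype Subtype.val_injective x₀).trans hx₀
  have hidx0 := Subgroup.index_mul_card N
  rw [hG] at hidx0
  have hfac : (Nat.card G).factorization 11 = 1 := by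
    rw [hG, show (7920 : ℕ) = 11 * 720 from rfl, Nat.factorization_mul (by norm_num) (by norm_num),
      Finsupp.add_apply, Nat.Prime.factorization_self (by norm_num), Nat.factorization_eq_zero_of_not_dvd (by norm_num)]
  let P : Sylow 11 G := Sylow.ofCard (Subgroup.zpowers (x₀ : G)) (by rw [Nat.card_zpowers, hx, hfac, pow_one])
  have hPeq : (P : Subgroup G) = Subgroup.zpowers (x₀ : G) := rfl
  set M : Subgroup G := Subgroup.normalizer ((P : Subgroup G) : Set G) with hM
  have hMcard : Nat.card M = 55 := by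
    have h1 : Nat.card M * Nat.card (Sylow 11 G) = 7920 := by
      rw [P.card_eq_index_normalizer, ← hG]
      exact M.card_mul_index
    have h2 : Nat.card (Sylow 11 G) % 11 = 1 := card_sylow_modEq_one 11 G
    have h3 : Nat.card M ∣ 110 := by
      have hk : (Subgroup.normalizerMonoidHom (P : Subgroup G)).ker.map M.subtype ≤ Subgroup.zpowers (x₀ : G) := by
        rintro _ ⟨⟨g, hg⟩, hg', rfl⟩
        refine centralizer_le_zpowers h hΩ hx ?_
        rw [Subgroup.normalizerMonoidHom_ker] at hg'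
        exact ((Subgroup.mem_subgroupOf.mp hg') _ (by rw [SetLike.mem_coe, hPeq]; exact Subgroup.mem_zpowers _)).symm
      have h4 : Nat.card (Subgroup.normalizerMonoidHom (P : Subgroup G)).ker ∣ 11 := by
        exact ((dvd_of_eq (Nat.card_congr ((Subgroup.normalizerMonoidHom (P : Subgroup G)).ker.equivMapOfInjective
          M.subtype Subtype.val_injective).toEquiv)).trans (Subgroup.card_dvd_of_le hk)).trans
          (dvd_of_eq ((Nat.card_zpowers _).trans hx))
      have h5 : Nat.card (Subgroup.normalizerMonoidHom (P : Subgroup G)).range ∣ 10 := by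
        refine (Subgroup.card_subgroup_dvd_card _).trans ?_
        haveI : IsCyclic (P : Subgroup G) := by rw [hPeq]; infer_instance
        rw [IsCyclic.card_mulAut, hPeq, Nat.card_zpowers, hx, Nat.totient_prime (by norm_num)]
      rw [← (Subgroup.normalizerMonoidHom (P : Subgroup G)).ker.card_mul_index, Subgroup.index_ker]
      exact mul_dvd_mul h4 h5
    have h6 : Nat.card M ∈ Nat.divisors 110 := Nat.mem_divisors.mpr ⟨h3, by norm_num⟩
    rw [show Nat.divisors 110 = {1, 2, 5, 10, 11, 22, 55, 110} by decide] at h6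
    simp only [Finset.mem_insert, Finset.mem_singleton] at h6
    generalize Nat.card (Sylow 11 G) = s at h1 h2
    rcases h6 with e | e | e | e | e | e | e | e <;> rw [e] at h1 ⊢ <;> omega
  have hPN : (P : Subgroup G) ≤ N := by rw [hPeq, Subgroup.zpowers_le]; exact x₀.2
  have hrel : N.index ∣ 55 := by
    have htop : N ⊔ M = ⊤ := by
      rw [eq_top_iff, ← Sylow.normalizer_sup_eq_top' P hPN, sup_comm]
      exact le_rfl
    rw [← hMcard, ← Subgroup.relIndex_top_right, ← htop, sup_comm, Subgroup.relIndex_sup_right]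
    exact Subgroup.relIndex_dvd_card N M
  have h11 := dvd11 N hN hb
  have hi : N.index ∈ Nat.divisors 55 := Nat.mem_divisors.mpr ⟨hrel, by norm_num⟩
  rw [show Nat.divisors 55 = {1, 5, 11, 55} by decide] at hi
  simp only [Finset.mem_insert, Finset.mem_singleton] at hi
  rcases hi with e | e | e | e
  · exact Subgroup.index_eq_one.mp e
  rotate_left
  · rw [e] at hidx0; obtain ⟨k, hk⟩ := h11; omega
  · rw [e] at hidx0; obtain ⟨k, hk⟩ := h11; omega
  exfalso
  rw [e] at hidx0
  have hPN0 : Nat.card ↥(M ⊓ N) = 11 := by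
    have h1 : N.relIndex M = 5 := by
      have htop : N ⊔ M = ⊤ := by
        rw [eq_top_iff, ← Sylow.normalizer_sup_eq_top' P hPN, sup_comm]
        exact le_rfl
      rw [← Subgroup.relIndex_sup_right, sup_comm M N, htop, Subgroup.relIndex_top_right, e]
    have h2 := (N.subgroupOf M).card_mul_index
    rw [show (N.subgroupOf M).index = 5 from h1, hMcard,
      ← Nat.card_congr (Subgroup.subgroupOfEquivOfLe (inf_le_left : M ⊓ N ≤ M)).toEquiv.symm.symm,
      Subgroup.inf_subgroupOf_left] at *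
    omega
  let P₀ : Sylow 11 N := P.subtype hPN
  have hle : Subgroup.normalizer ((P₀ : Subgroup N) : Set N) ≤ Subgroup.centralizer ((P₀ : Subgroup N) : Set N) := by
    have hmap : (Subgroup.normalizer ((P₀ : Subgroup N) : Set N)).map N.subtype ≤ M ⊓ N := by
      rintro _ ⟨n, hn, rfl⟩
      refine ⟨?_, n.2⟩
      show (n : G) ∈ M
      rw [hM, Subgroup.mem_normalizer_iff]
      intro y
      rw [SetLike.mem_coe, Subgroup.mem_normalizer_iff] at hn
      constructor
      · intro hy
        exact (hn ⟨y, hPN hy⟩).mp hy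
      · intro hy
        have hyN : y ∈ N := by
          have := N.mul_mem (N.mul_mem (N.inv_mem n.2) (hPN hy)) n.2
          simpa [mul_assoc] using this
        exact (hn ⟨y, hyN⟩).mpr hy
    have hPM : (P : Subgroup G) ≤ M ⊓ N := le_inf Subgroup.le_normalizer hPN
    have heq : (P : Subgroup G) = M ⊓ N :=
      Subgroup.eq_of_le_of_card_ge hPM (by rw [hPN0, hPeq, Nat.card_zpowers, hx])
    intro n hn y hy
    have hn' : (n : G) ∈ (P : Subgroup G) := heq ▸ hmap ⟨n, hn, rfl⟩
    have hy' : (y : G) ∈ (P : Subgroup G) := hy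
    rw [hPeq] at hn' hy'
    obtain ⟨i, hi'⟩ := Subgroup.mem_zpowers_iff.mp hn'
    obtain ⟨j, hj'⟩ := Subgroup.mem_zpowers_iff.mp hy'
    refine Subtype.ext ?_
    show (y : G) * n = n * y
    rw [← hi', ← hj', ← zpow_add, ← zpow_add, add_comm]
  set K : Subgroup N := (MonoidHom.transferSylow P₀ hle).ker with hK
  have hcompl := MonoidHom.ker_transferSylow_isComplement' P₀ hle
  have hKcard : Nat.card K = 144 := by
    have h1 := hcompl.card_mul
    have h2 : Nat.card (P₀ : Subgroup N) = 11 := by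
      rw [show (P₀ : Subgroup N) = (P : Subgroup G).subgroupOf N from rfl,
        Nat.card_congr (Subgroup.subgroupOfEquivOfLe hPN).toEquiv, hPeq, Nat.card_zpowers, hx]
    rw [h2, ← hK] at h1
    omega
  have hKchar : ∀ n : N, n ^ 144 = 1 → n ∈ K := by
    intro n hn
    have h1 : (MonoidHom.transferSylow P₀ hle n) ^ 144 = 1 := by rw [← map_pow, hn, map_one]
    have h2 : Nat.card (P₀ : Subgroup N) = 11 := by
      rw [show (P₀ : Subgroup N) = (P : Subgroup G).subgroupOf N from rfl,
        Nat.card_congr (Subgroup.subgroupOfEquivOfLe hPN).toEquiv, hPeq, Nat.card_zpowers, hx]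
    have h3 := (orderOf_dvd_of_pow_eq_one h1)
    have h4 := h2 ▸ orderOf_dvd_natCard (MonoidHom.transferSylow P₀ hle n)
    exact MonoidHom.mem_ker.mpr (orderOf_eq_one_iff.mp (Nat.dvd_one.mp
      ((by norm_num : Nat.gcd 144 11 = 1) ▸ Nat.dvd_gcd h3 h4)))
  have hKn : (K.map N.subtype).Normal := ⟨by
    rintro _ ⟨k, hk, rfl⟩ g
    refine ⟨⟨g * k * g⁻¹, hN.conj_mem k k.2 g⟩, hKchar _ (Subtype.ext ?_), rfl⟩
    show (g * (k : G) * g⁻¹) ^ 144 = 1
    rw [conj_pow]
    have : (⟨k, hk⟩ : K) ^ Nat.card K = 1 := pow_card_eq_one'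
    have hk' := congrArg (fun z : K => ((z : N) : G)) this
    rw [hKcard] at hk'
    simp only [SubgroupClass.coe_pow, OneMemClass.coe_one] at hk'
    rw [hk', mul_one, mul_inv_cancel]⟩
  have hKc : Nat.card ↥(K.map N.subtype) = 144 := by
    rw [← Nat.card_congr (K.equivMapOfInjective N.subtype Subtype.val_injective).toEquiv, hKcard]
  have h144 := dvd11 _ hKn (fun e0 => by rw [e0, Subgroup.card_bot] at hKc; omega)
  rw [hKc] at h144
  omega

theorem card_of_sharp {k : ℕ} (G : Subgroup (Equiv.Perm α)) [htr : MulAction.IsMultiplyPretransitive G α k]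
    (x₀ : Fin k ↪ α) (hsharp : ∀ x : Fin k ↪ α, MulAction.stabilizer G x = ⊥) :
    Nat.card G = (Fintype.card α).descFactorial k := by
  have h1 := MulAction.index_stabilizer G x₀
  rw [hsharp x₀, Subgroup.index_bot, @MulAction.orbit_eq_univ _ _ _ _ htr x₀, Set.ncard_univ] at h1
  rw [h1, Nat.card_eq_fintype_card, Fintype.card_embedding_eq, Fintype.card_fin]

theorem twoTrans_univ {k : ℕ} (G : Subgroup (Equiv.Perm α)) [MulAction.IsMultiplyPretransitive G α k]
    (hk : 2 ≤ k) (hk' : k ≤ Fintype.card α) : TwoTransFaithful G Finset.univ := by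
  haveI : MulAction.IsMultiplyPretransitive G α 2 :=
    MulAction.isMultiplyPretransitive_of_le (n := k) hk (by simpa [ENat.card_eq_coe_fintype_card] using hk')
  refine ⟨fun _ _ _ _ => Finset.mem_univ _, fun g _ hg => Equiv.ext fun x => hg x (Finset.mem_univ x),
    fun a _ b _ c _ d _ hab hcd => ?_, by rw [Finset.card_univ]; omega⟩
  obtain ⟨g, h1, h2⟩ := (MulAction.is_two_pretransitive_iff (G := G) (α := α)).mp inferInstance hab hcd
  exact ⟨g, g.2, h1, h2⟩

theorem isM11_sharp (hα : Fintype.card α = 11) (G : Subgroup (Equiv.Perm α))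
    [MulAction.IsMultiplyPretransitive G α 4] (hsharp : ∀ x : Fin 4 ↪ α, MulAction.stabilizer G x = ⊥) :
    Cfsg.IsM11 G := by
  obtain ⟨x₀⟩ : Nonempty (Fin 4 ↪ α) := Function.Embedding.nonempty_of_card_le (by simp [hα])
  have hc : Nat.card G = 7920 := by rw [card_of_sharp G x₀ hsharp, hα]; rfl
  exact ⟨simple_eleven (twoTrans_univ G (k := 4) (by norm_num) (by omega)) (by rw [Finset.card_univ, hα]) hc, hc⟩

theorem isM12_sharp (hα : Fintype.card α = 12) (G : Subgroup (Equiv.Perm α))
    [hG : MulAction.IsMultiplyPretransitive G α 5] (hsharp : ∀ x : Fin 5 ↪ α, MulAction.stabilizer G x = ⊥) :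
    Cfsg.IsM12 G := by
  obtain ⟨x₀⟩ : Nonempty (Fin 5 ↪ α) := Function.Embedding.nonempty_of_card_le (by simp [hα])
  have hc : Nat.card G = 95040 := by rw [card_of_sharp G x₀ hsharp, hα]; rfl
  refine ⟨?_, hc⟩
  have h2 := twoTrans_univ G (k := 5) (by norm_num) (by omega)
  let a : α := x₀ 0
  set Ga := G ⊓ MulAction.stabilizer (Equiv.Perm α) a with hGa
  have h3 : MulAction.IsMultiplyPretransitive G α 3 :=
    MulAction.isMultiplyPretransitive_of_le (n := 5) (by norm_num) (by simp [ENat.card_eq_coe_fintype_card, hα])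
  have hta : TwoTransFaithful Ga (Finset.univ.erase a) := by
    refine ⟨fun g hg x hx => ?_, fun g hg hfix => Equiv.ext fun x => ?_, ?_, by simp [hα]⟩
    · have hga : g a = a := (Subgroup.mem_inf.mp hg).2
      refine Finset.mem_erase.mpr ⟨fun e => (Finset.mem_erase.mp hx).1 (g.injective (e.trans hga.symm)), Finset.mem_univ _⟩
    · by_cases hx : x = a
      · exact hx ▸ (Subgroup.mem_inf.mp hg).2
      · exact hfix x (Finset.mem_erase.mpr ⟨hx, Finset.mem_univ x⟩)
    · intro b hb c hc' d hd e he hbc hde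
      let u : Fin 3 ↪ α := ⟨![a, b, c], by
        intro i j hij
        have := (Finset.mem_erase.mp hb).1; have := (Finset.mem_erase.mp hc').1
        fin_cases i <;> fin_cases j <;> simp_all [eq_comm]⟩
      let v : Fin 3 ↪ α := ⟨![a, d, e], by
        intro i j hij
        have := (Finset.mem_erase.mp hd).1; have := (Finset.mem_erase.mp he).1
        fin_cases i <;> fin_cases j <;> simp_all [eq_comm]⟩
      obtain ⟨g, hg⟩ := MulAction.exists_smul_eq G u v
      have hval : ∀ i, (g : Equiv.Perm α) (u i) = v i := fun i =>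
        congrArg (fun z : Fin 3 ↪ α => z i) hg
      exact ⟨g, Subgroup.mem_inf.mpr ⟨g.2, hval 0⟩, hval 1, hval 2⟩
  have hcard : Nat.card Ga = 7920 := by
    have horb : MulAction.orbit G a = Set.univ := by
      haveI := MulAction.isPretransitive_of_is_two_pretransitive (G := G) (α := α)
        (h2 := MulAction.isMultiplyPretransitive_of_le (n := 5) (by norm_num) (by simp [ENat.card_eq_coe_fintype_card, hα]))
      exact MulAction.orbit_eq_univ G a
    have h1 := (MulAction.stabilizer G a).card_mul_index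
    rw [MulAction.index_stabilizer, horb, Set.ncard_univ, Nat.card_eq_fintype_card (α := α), hα, hc] at h1
    have : Nat.card (MulAction.stabilizer G a) = Nat.card Ga := Nat.card_congr
      { toFun := fun g => ⟨(g : G), ⟨(g : G).2, g.2⟩⟩
        invFun := fun g => ⟨⟨g.1, g.2.1⟩, g.2.2⟩
        left_inv := fun g => rfl
        right_inv := fun g => rfl }
    omega
  exact h2.isSimple_of_stabilizer (a := a) (Finset.mem_univ a)
    (simple_eleven hta (by simp [hα]) hcard)
    (Or.inl (by
      rw [Finset.card_univ, hα]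
      rw [isPrimePow_iff_unique_prime_dvd]
      rintro ⟨p, -, hu⟩
      exact absurd ((hu 2 ⟨Nat.prime_two, by norm_num⟩).trans (hu 3 ⟨Nat.prime_three, by norm_num⟩).symm) (by norm_num)))

end CfsgTwelve
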