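/-
The outer correspondence between the pairs of six letters and the fixed-point-free involutions.
-/
import Mathlib

set_option autoImplicit false

namespace CfsgTwelve

/-- The involution attached to a pair. -/
def M0 : Fin 6 → Fin 6 → Fin 6 → Fin 6 := ![
  ![![0, 1, 2, 3, 4, 5], ![1, 0, 3, 2, 5, 4], ![2, 4, 0, 5, 1, 3], ![3, 5, 4, 0, 2, 1], ![4, 3, 5, 1, 0, 2], ![5, 2, 1, 4, 3, 0]],
  ![![1, 0, 3, 2, 5, 4], ![0, 1, 2, 3, 4, 5], ![5, 3, 4, 1, 2, 0], ![4, 2, 1, 5, 0, 3], ![2, 5, 0, 4, 3, 1], ![3, 4, 5, 0, 1, 2]],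
  ![![2, 4, 0, 5, 1, 3], ![5, 3, 4, 1, 2, 0], ![0, 1, 2, 3, 4, 5], ![1, 0, 5, 4, 3, 2], ![3, 2, 1, 0, 5, 4], ![4, 5, 3, 2, 0, 1]],
  ![![3, 5, 4, 0, 2, 1], ![4, 2, 1, 5, 0, 3], ![1, 0, 5, 4, 3, 2], ![0, 1, 2, 3, 4, 5], ![5, 4, 3, 2, 1, 0], ![2, 3, 0, 1, 5, 4]],
  ![![4, 3, 5, 1, 0, 2], ![2, 5, 0, 4, 3, 1], ![3, 2, 1, 0, 5, 4], ![5, 4, 3, 2, 1, 0], ![0, 1, 2, 3, 4, 5], ![1, 0, 4, 5, 2, 3]],
  ![![5, 2, 1, 4, 3, 0], ![3, 4, 5, 0, 1, 2], ![4, 5, 3, 2, 0, 1], ![2, 3, 0, 1, 5, 4], ![1, 0, 4, 5, 2, 3], ![0, 1, 2, 3, 4, 5]]]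

theorem M0_symm : ∀ a b, M0 a b = M0 b a := by decide +kernel

theorem M0_spec : ∀ a b, a ≠ b → ∀ p, M0 a b p ≠ p ∧ M0 a b (M0 a b p) = p := by decide +kernel

theorem M0_surj : ∀ f : Equiv.Perm (Fin 6), (∀ p, f p ≠ p ∧ f (f p) = p) →
    ∃ a b, a ≠ b ∧ ∀ p, M0 a b p = f p := by decide +kernel

theorem M0_disjoint : ∀ a b, a ≠ b → ∀ c d, c ≠ d → (∀ p, M0 a b p ≠ M0 c d p) →
    (({a, b} : Finset (Fin 6)) ∩ {c, d}).card = 1 := by decide +kernel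

theorem M0_edge : ∀ a p q, p ≠ q → ∃ e, e ≠ a ∧ M0 a e p = q := by decide +kernel

/-- An edge avoids the three involutions of a triangle. -/
def Av (a b c p q : Fin 6) : Prop := M0 a b p ≠ q ∧ M0 a c p ≠ q ∧ M0 b c p ≠ q

instance (a b c p q : Fin 6) : Decidable (Av a b c p q) := by unfold Av; infer_instance

theorem avoid_unique : ∀ a b, a ≠ b → ∀ c, a ≠ c → b ≠ c → ∀ p q, p ≠ q → Av a b c p q →
    ∀ r, r ≠ p → r ≠ q → Av a b c p r → Av a b c q r →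
    ∀ r', r' ≠ p → r' ≠ q → Av a b c p r' → Av a b c q r' → r = r' := by decide +kernel

theorem M0_centre : ∀ σ : Equiv.Perm (Fin 6), (∀ a b, a ≠ b → ∀ p, M0 a b (σ p) = σ (M0 a b p)) → σ = 1 := by
  decide +kernel

theorem exists_fourth : ∀ p u v w : Fin 6, ∃ q, q ≠ p ∧ q ≠ u ∧ q ≠ v ∧ q ≠ w := by decide +kernel

/-- The three involutions of a star leave no triangle free. -/
theorem star_triangle {a b c d p q r : Fin 6} (hba : b ≠ a) (hca : c ≠ a) (hda : d ≠ a) (hbc : b ≠ c)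
    (hbd : b ≠ d) (hcd : c ≠ d) (hpq : p ≠ q) (hpr : p ≠ r) (hqr : q ≠ r)
    (h1 : ∀ x, (x = b ∨ x = c ∨ x = d) → M0 a x p ≠ q ∧ M0 a x p ≠ r ∧ M0 a x q ≠ r) : False := by
  obtain ⟨e1, n1, f1⟩ := M0_edge a p q hpq
  obtain ⟨e2, n2, f2⟩ := M0_edge a p r hpr
  obtain ⟨e3, n3, f3⟩ := M0_edge a q r hqr
  have g12 : e1 ≠ e2 := fun e => hqr (f1.symm.trans (e ▸ f2))
  have g13 : e1 ≠ e3 := fun e => hpr (((M0_spec a e1 n1.symm p).2.symm.trans (congrArg _ f1)).trans (e ▸ f3))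
  have g23 : e2 ≠ e3 := fun e => hpq (((M0_spec a e2 n2.symm p).2.symm.trans (congrArg _ f2)).trans
    (((congrArg _ (e ▸ f3)).symm.trans (M0_spec a e2 n2.symm q).2)))
  have hin : ∀ e, e ≠ a → (e = e1 ∨ e = e2 ∨ e = e3) → e ∈ (Finset.univ : Finset (Fin 6)) \ {a, b, c, d} := by
    intro e he hcase
    have hx : ¬ (e = b ∨ e = c ∨ e = d) := fun hh => by
      rcases hcase with rfl | rfl | rfl
      · exact (h1 _ hh).1 f1
      · exact (h1 _ hh).2.1 f2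
      · exact (h1 _ hh).2.2 f3
    simpa [not_or, he] using hx
  have hsub : ({e1, e2, e3} : Finset (Fin 6)) ⊆ Finset.univ \ {a, b, c, d} := by
    simp only [Finset.insert_subset_iff, Finset.singleton_subset_iff]
    exact ⟨hin _ n1 (Or.inl rfl), hin _ n2 (Or.inr (Or.inl rfl)), hin _ n3 (Or.inr (Or.inr rfl))⟩
  have := Finset.card_le_card hsub
  rw [Finset.card_eq_three.mpr ⟨e1, e2, e3, g12, g13, g23, rfl⟩,
    Finset.card_sdiff_of_subset (Finset.subset_univ _)] at this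
  have h4 : ({a, b, c, d} : Finset (Fin 6)).card = 4 := by simp [hba.symm, hca.symm, hda.symm, hbc, hbd, hcd]
  rw [h4] at this
  simp at this

end CfsgTwelve
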