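/-
Steiner systems S(5,6,12): normal form on six plus six letters, and the extension of five-point maps.
-/
import Cfsg.Agent.Lib.SteinerTwelve.Table
import Cfsg.Agent.S0357

set_option autoImplicit false

namespace CfsgTwelve

open Cfsg CfsgSteiner

/-- The twelve labels. -/
abbrev P := Fin 6 ⊕ Fin 6

/-- The base block. -/
def A0 : Finset P := (Finset.univ : Finset (Fin 6)).disjSum ∅

/-- A block meeting the base block in four labels. -/
def hex4 (i j p : Fin 6) : Finset P := (Finset.univ \ {i, j}).disjSum {p, M0 i j p}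

/-- A system in normal form. -/
structure Std (C : Set (Finset P)) : Prop where
  steiner : IsSteinerSystem 5 6 C
  base : A0 ∈ C
  quad : ∀ i j, i ≠ j → ∀ p, hex4 i j p ∈ C

variable {C C' : Set (Finset P)}

theorem card_P : Fintype.card P = 12 := rfl

theorem eq_of_common (hC : IsSteinerSystem 5 6 C) {d d' : Finset P} (hd : d ∈ C) (hd' : d' ∈ C)
    (L R : Finset (Fin 6)) (h5 : 5 ≤ L.card + R.card)
    (hl : L ⊆ d.toLeft) (hr : R ⊆ d.toRight) (hl' : L ⊆ d'.toLeft) (hr' : R ⊆ d'.toRight) : d = d' := by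
  refine unique_block hC hd hd' (s := L.disjSum R) (by rwa [Finset.card_disjSum]) ?_ ?_
  · intro z hz
    rcases z with k | k
    · exact Finset.mem_toLeft.mp (hl (Finset.inl_mem_disjSum.mp hz))
    · exact Finset.mem_toRight.mp (hr (Finset.inr_mem_disjSum.mp hz))
  · intro z hz
    rcases z with k | k
    · exact Finset.mem_toLeft.mp (hl' (Finset.inl_mem_disjSum.mp hz))
    · exact Finset.mem_toRight.mp (hr' (Finset.inr_mem_disjSum.mp hz))

theorem card_left_right (hC : IsSteinerSystem 5 6 C) {d : Finset P} (hd : d ∈ C) :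
    d.toLeft.card + d.toRight.card = 6 := by
  rw [Finset.card_toLeft_add_card_toRight, hC.1 d hd]

theorem ext_lr {d d' : Finset P} (hl : d.toLeft = d'.toLeft) (hr : d.toRight = d'.toRight) : d = d' := by
  rw [← Finset.toLeft_disjSum_toRight (u := d), hl, hr, Finset.toLeft_disjSum_toRight]

theorem hex4_left (i j p : Fin 6) : (hex4 i j p).toLeft = Finset.univ \ {i, j} := Finset.toLeft_disjSum

theorem hex4_right (i j p : Fin 6) : (hex4 i j p).toRight = {p, M0 i j p} := Finset.toRight_disjSum

theorem compl_pair_card {i j : Fin 6} (h : i ≠ j) : (Finset.univ \ {i, j} : Finset (Fin 6)).card = 4 := by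
  rw [Finset.card_sdiff_of_subset (Finset.subset_univ _), Finset.card_pair h]; rfl

theorem compl_eq (hC : IsSteinerSystem 5 6 C) {d : Finset P} (hd : d ∈ C) : dᶜ ∈ C :=
  Cfsg.Agent.S0357.result card_P hC hd

theorem big_left (hC : IsSteinerSystem 5 6 C) (hA : A0 ∈ C) {d : Finset P} (hd : d ∈ C)
    (h : 5 ≤ d.toLeft.card) : d = A0 :=
  eq_of_common hC hd hA d.toLeft ∅ (by simpa using h) subset_rfl (Finset.empty_subset _)
    (by rw [A0, Finset.toLeft_disjSum]; exact Finset.subset_univ _) (Finset.empty_subset _)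

theorem four_left (h : Std C) {d : Finset P} (hd : d ∈ C) (h4 : d.toLeft.card = 4) :
    ∃ i j p, i ≠ j ∧ d = hex4 i j p := by
  obtain ⟨i, j, hij, he⟩ := Finset.card_eq_two.mp
    (show (Finset.univ \ d.toLeft).card = 2 by rw [Finset.card_sdiff_of_subset (Finset.subset_univ _), h4]; rfl)
  have hL : d.toLeft = Finset.univ \ {i, j} := by rw [← he, sdiff_sdiff_right_self]; simp
  obtain ⟨p, hp⟩ := Finset.card_pos.mp (show 0 < d.toRight.card by
    have := card_left_right h.steiner hd; omega)
  refine ⟨i, j, p, hij, eq_of_common h.steiner hd (h.quad i j hij p) d.toLeft {p} (by simp [h4]) subset_rfl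
    (by simpa using hp) ?_ ?_⟩
  · rw [hex4_left, hL]
  · rw [hex4_right]; simp

/-- The complement of a three-element set as a triple. -/
theorem three_compl {S : Finset (Fin 6)} (hS : S.card = 3) : ∃ a b c, a ≠ b ∧ a ≠ c ∧ b ≠ c ∧
    a ∉ S ∧ b ∉ S ∧ c ∉ S ∧ ∀ x, x ∉ S → x = a ∨ x = b ∨ x = c := by
  obtain ⟨a, b, c, hab, hac, hbc, he⟩ := Finset.card_eq_three.mp
    (show (Finset.univ \ S).card = 3 by rw [Finset.card_sdiff_of_subset (Finset.subset_univ _), hS]; rfl)
  have key : ∀ x, x ∈ ({a, b, c} : Finset (Fin 6)) ↔ x ∉ S := fun x => by rw [← he]; simp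
  exact ⟨a, b, c, hab, hac, hbc, (key a).mp (by simp), (key b).mp (by simp), (key c).mp (by simp),
    fun x hx => by simpa using (key x).mpr hx⟩

theorem three_av (h : Std C) {d : Finset P} (hd : d ∈ C) (h3 : d.toLeft.card = 3) {x y : Fin 6} (hxy : x ≠ y)
    (hx : x ∉ d.toLeft) (hy : y ∉ d.toLeft) {p q : Fin 6} (hp : p ∈ d.toRight) (hq : q ∈ d.toRight)
    (hpq : p ≠ q) : M0 x y p ≠ q := by
  intro e
  have he : d = hex4 x y p := eq_of_common h.steiner hd (h.quad x y hxy p) d.toLeft {p, q}
    (by rw [Finset.card_pair hpq, h3]) subset_rfl (by simp [Finset.insert_subset_iff, hp, hq])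
    (by
      rw [hex4_left]
      intro k hk
      simp only [Finset.mem_sdiff, Finset.mem_univ, true_and, Finset.mem_insert, Finset.mem_singleton, not_or]
      exact ⟨fun e => hx (e ▸ hk), fun e => hy (e ▸ hk)⟩)
    (by rw [hex4_right, e])
  rw [he, hex4_left, compl_pair_card hxy] at h3
  omega

theorem Std.subset (h : Std C) (h' : Std C') : C ⊆ C' := by
  have key : ∀ d ∈ C, 3 ≤ d.toLeft.card → d ∈ C' := by
    intro d hd h3
    rcases (show d.toLeft.card = 3 ∨ d.toLeft.card = 4 ∨ 5 ≤ d.toLeft.card by omega) with e | e | e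
    · obtain ⟨a, b, c, hab, hac, hbc, ha, hb, hc, hall⟩ := three_compl e
      obtain ⟨p, q, r, hpq, hpr, hqr, hR⟩ := Finset.card_eq_three.mp
        (show d.toRight.card = 3 by have := card_left_right h.steiner hd; omega)
      have hp : p ∈ d.toRight := by simp [hR]
      have hq : q ∈ d.toRight := by simp [hR]
      have hr : r ∈ d.toRight := by simp [hR]
      have av : ∀ {u v}, u ∈ d.toRight → v ∈ d.toRight → u ≠ v → Av a b c u v := fun hu hv huv =>
        ⟨three_av h hd e hab ha hb hu hv huv, three_av h hd e hac ha hc hu hv huv,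
          three_av h hd e hbc hb hc hu hv huv⟩
      obtain ⟨d', ⟨hd', hsub⟩, -⟩ := h'.steiner.2 (d.toLeft.disjSum {p, q})
        (by rw [Finset.card_disjSum, Finset.card_pair hpq, e])
      have hl : d.toLeft ⊆ d'.toLeft := fun k hk => Finset.mem_toLeft.mpr (hsub (Finset.inl_mem_disjSum.mpr hk))
      have hp' : p ∈ d'.toRight := Finset.mem_toRight.mpr (hsub (Finset.inr_mem_disjSum.mpr (by simp)))
      have hq' : q ∈ d'.toRight := Finset.mem_toRight.mpr (hsub (Finset.inr_mem_disjSum.mpr (by simp)))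
      have h6 := card_left_right h'.steiner hd'
      have h2 : 1 < d'.toRight.card := Finset.one_lt_card.mpr ⟨p, hp', q, hq', hpq⟩
      have h3' : d'.toLeft.card = 3 := by
        rcases (show d'.toLeft.card = 3 ∨ d'.toLeft.card = 4 by
          have := Finset.card_le_card hl; omega) with e' | e'
        · exact e'
        obtain ⟨i, j, p', hij, rfl⟩ := four_left h' hd' e'
        rw [hex4_left] at hl
        rw [hex4_right, Finset.mem_insert, Finset.mem_singleton] at hp' hq'
        have hout : ∀ k, k = i ∨ k = j → k ∉ d.toLeft := fun k hk hk' => by simpa [hk] using hl hk'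
        have hM : M0 i j p = q := by
          rcases hp' with rfl | rfl <;> rcases hq' with rfl | rfl
          · exact absurd rfl hpq
          · rfl
          · exact (M0_spec i j hij _).2
          · exact absurd rfl hpq
        obtain ⟨g1, g2, g3⟩ := av hp hq hpq
        rcases hall i (hout i (Or.inl rfl)) with rfl | rfl | rfl <;>
          rcases hall j (hout j (Or.inr rfl)) with rfl | rfl | rfl <;>
          first | exact absurd rfl hij | exact absurd hM g1 | exact absurd hM g2 | exact absurd hM g3 |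
            (rw [M0_symm] at hM; first | exact absurd hM g1 | exact absurd hM g2 | exact absurd hM g3)
      have hL : d.toLeft = d'.toLeft := Finset.eq_of_subset_of_card_le hl (by omega)
      obtain ⟨r', hr', hr1, hr2⟩ : ∃ r' ∈ d'.toRight, r' ≠ p ∧ r' ≠ q := by
        by_contra hh
        push Not at hh
        have := Finset.card_le_card (show d'.toRight ⊆ {p, q} from fun x hx => by
          rw [Finset.mem_insert, Finset.mem_singleton]
          exact or_iff_not_imp_left.mpr (hh x hx))
        rw [Finset.card_pair hpq] at this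
        omega
      have av' : ∀ {u v}, u ∈ d'.toRight → v ∈ d'.toRight → u ≠ v → Av a b c u v := fun hu hv huv =>
        ⟨three_av h' hd' h3' hab (hL ▸ ha) (hL ▸ hb) hu hv huv, three_av h' hd' h3' hac (hL ▸ ha) (hL ▸ hc) hu hv huv,
          three_av h' hd' h3' hbc (hL ▸ hb) (hL ▸ hc) hu hv huv⟩
      have hrr : r = r' := avoid_unique a b hab c hac hbc p q hpq (av hp hq hpq) r hpr.symm hqr.symm
        (av hp hr hpr) (av hq hr hqr) r' hr1 hr2 (av' hp' hr' hr1.symm) (av' hq' hr' hr2.symm)
      have : d.toRight = d'.toRight := by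
        rw [hR]
        refine Finset.eq_of_subset_of_card_le ?_ (by rw [Finset.card_eq_three.mpr ⟨p, q, r, hpq, hpr, hqr, rfl⟩]; omega)
        simp [Finset.insert_subset_iff, hp', hq', hrr, hr']
      rw [ext_lr hL this]
      exact hd'
    · obtain ⟨i, j, p, hij, rfl⟩ := four_left h hd e
      exact h'.quad i j hij p
    · rw [big_left h.steiner h.base hd e]
      exact h'.base
  intro d hd
  by_cases h3 : 3 ≤ d.toLeft.card
  · exact key d hd h3
  · have hc := compl_eq h.steiner hd
    have hcl : dᶜ.toLeft = d.toLeftᶜ := by ext k; simp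
    have := key dᶜ hc (by rw [hcl, Finset.card_compl]; simp; omega)
    simpa using compl_eq h'.steiner this

theorem Std.unique (h : Std C) (h' : Std C') : C = C' := (h.subset h').antisymm (h'.subset h)

/-! ### Normalisation -/

/-- The label joined to `p` by the blocks through four labels of the base. -/
noncomputable def mate (C : Set (Finset P)) (i j p : Fin 6) : Fin 6 :=
  Classical.epsilon fun q => q ≠ p ∧ ∃ d ∈ C, (Finset.univ \ {i, j}).disjSum {p, q} ⊆ d

section Mate

variable (hC : IsSteinerSystem 5 6 C) (hA : A0 ∈ C)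
include hC hA

theorem mate_exists {i j : Fin 6} (hij : i ≠ j) (p : Fin 6) :
    ∃ q, q ≠ p ∧ ∃ d ∈ C, (Finset.univ \ {i, j}).disjSum {p, q} ⊆ d := by
  obtain ⟨d, ⟨hd, hsub⟩, -⟩ := hC.2 ((Finset.univ \ {i, j}).disjSum {p})
    (by rw [Finset.card_disjSum, compl_pair_card hij, Finset.card_singleton])
  have hl : Finset.univ \ {i, j} ⊆ d.toLeft := fun k hk => Finset.mem_toLeft.mpr (hsub (Finset.inl_mem_disjSum.mpr hk))
  have hp : p ∈ d.toRight := Finset.mem_toRight.mpr (hsub (Finset.inr_mem_disjSum.mpr (by simp)))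
  have h4 : d.toLeft.card ≤ 4 := by
    by_contra hc
    rw [big_left hC hA hd (by omega), A0, Finset.toRight_disjSum] at hp
    simp at hp
  obtain ⟨q, hq, hqp⟩ := Finset.exists_mem_ne
    (show 1 < d.toRight.card by have := card_left_right hC hd; omega) p
  refine ⟨q, hqp, d, hd, ?_⟩
  intro z hz
  rcases z with k | k
  · exact hsub (Finset.inl_mem_disjSum.mpr (Finset.inl_mem_disjSum.mp hz))
  · rcases Finset.mem_insert.mp (Finset.inr_mem_disjSum.mp hz) with rfl | h
    · exact Finset.mem_toRight.mp hp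
    · rw [Finset.mem_singleton.mp h]; exact Finset.mem_toRight.mp hq

theorem mate_spec {i j : Fin 6} (hij : i ≠ j) (p : Fin 6) :
    mate C i j p ≠ p ∧ ∃ d ∈ C, d.toLeft = Finset.univ \ {i, j} ∧ d.toRight = {p, mate C i j p} := by
  obtain ⟨hne, d, hd, hsub⟩ := Classical.epsilon_spec
    (p := fun q => q ≠ p ∧ ∃ d ∈ C, (Finset.univ \ {i, j}).disjSum {p, q} ⊆ d) (mate_exists hC hA hij p)
  refine ⟨hne, d, hd, ?_⟩
  have he : (Finset.univ \ {i, j}).disjSum {p, mate C i j p} = d := Finset.eq_of_subset_of_card_le hsub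
    (by rw [hC.1 d hd, Finset.card_disjSum, compl_pair_card hij, Finset.card_pair (show mate C i j p ≠ p from hne).symm])
  rw [← he, Finset.toLeft_disjSum, Finset.toRight_disjSum]
  exact ⟨rfl, rfl⟩

theorem mate_eq {i j : Fin 6} (hij : i ≠ j) {p q : Fin 6} (hqp : q ≠ p) {d : Finset P} (hd : d ∈ C)
    (hl : Finset.univ \ {i, j} ⊆ d.toLeft) (hp : p ∈ d.toRight) (hq : q ∈ d.toRight) : mate C i j p = q := by
  obtain ⟨hne, e, he, hel, her⟩ := mate_spec hC hA hij p
  have : d = e := eq_of_common hC hd he (Finset.univ \ {i, j}) {p} (by rw [compl_pair_card hij]; rfl) hl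
    (by simpa using hp) hel.ge (by rw [her]; simp)
  rw [this, her, Finset.mem_insert, Finset.mem_singleton] at hq
  exact (hq.resolve_left hqp).symm

theorem mate_comm {i j : Fin 6} (hij : i ≠ j) : mate C i j = mate C j i := by
  funext p
  obtain ⟨hne, d, hd, hl, hr⟩ := mate_spec hC hA hij.symm p
  exact mate_eq hC hA hij hne hd (by rw [hl, Finset.pair_comm]) (by simp [hr]) (by simp [hr])

theorem mate_mate {i j : Fin 6} (hij : i ≠ j) (p : Fin 6) : mate C i j (mate C i j p) = p := by
  obtain ⟨hne, d, hd, hl, hr⟩ := mate_spec hC hA hij p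
  exact mate_eq hC hA hij hne.symm hd hl.ge (by simp [hr]) (by simp [hr])

theorem mate_disjoint {i j k : Fin 6} (hij : i ≠ j) (hik : i ≠ k) (hjk : j ≠ k) (p : Fin 6) :
    mate C i j p ≠ mate C i k p := by
  intro e
  obtain ⟨hne, d, hd, hl, hr⟩ := mate_spec hC hA hij p
  obtain ⟨-, d', hd', hl', hr'⟩ := mate_spec hC hA hik p
  have : d = d' := eq_of_common hC hd hd' (Finset.univ \ {i, j, k}) {p, mate C i j p}
    (by rw [Finset.card_pair hne.symm, Finset.card_sdiff_of_subset (Finset.subset_univ _),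
      Finset.card_eq_three.mpr ⟨i, j, k, hij, hik, hjk, rfl⟩]; rfl)
    (by rw [hl]; exact Finset.sdiff_subset_sdiff subset_rfl (by simp [Finset.insert_subset_iff]))
    (by rw [hr]) (by rw [hl']; exact Finset.sdiff_subset_sdiff subset_rfl (by simp [Finset.insert_subset_iff]))
    (by rw [hr', e])
  have hj : j ∈ d'.toLeft := by rw [hl']; simp [hij.symm, hjk]
  rw [← this, hl] at hj
  simp at hj

theorem mate_triangle {a b c : Fin 6} (hab : a ≠ b) (hac : a ≠ c) (hbc : b ≠ c) :
    ∃ p q r, p ≠ q ∧ p ≠ r ∧ q ≠ r ∧ ∀ x y, (x = a ∧ y = b ∨ x = a ∧ y = c ∨ x = b ∧ y = c) →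
      mate C x y p ≠ q ∧ mate C x y p ≠ r ∧ mate C x y q ≠ r := by
  set S : Finset (Fin 6) := Finset.univ \ {a, b, c} with hS
  have hS3 : S.card = 3 := by
    rw [hS, Finset.card_sdiff_of_subset (Finset.subset_univ _),
      Finset.card_eq_three.mpr ⟨a, b, c, hab, hac, hbc, rfl⟩]; rfl
  obtain ⟨q, hq0, hq1, hq2, hq3⟩ := exists_fourth 0 (mate C a b 0) (mate C a c 0) (mate C b c 0)
  obtain ⟨d, ⟨hd, hsub⟩, -⟩ := hC.2 (S.disjSum {0, q}) (by rw [Finset.card_disjSum, Finset.card_pair hq0.symm, hS3])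
  have hl : S ⊆ d.toLeft := fun k hk => Finset.mem_toLeft.mpr (hsub (Finset.inl_mem_disjSum.mpr hk))
  have hp' : (0 : Fin 6) ∈ d.toRight := Finset.mem_toRight.mpr (hsub (Finset.inr_mem_disjSum.mpr (by simp)))
  have hq' : q ∈ d.toRight := Finset.mem_toRight.mpr (hsub (Finset.inr_mem_disjSum.mpr (by simp)))
  have hsubpair : ∀ {x y z : Fin 6}, z ∈ d.toLeft → ({a, b, c} : Finset (Fin 6)) ⊆ {x, y, z} →
      Finset.univ \ {x, y} ⊆ d.toLeft := by
    intro x y z hz hsub' k hk
    by_cases hkz : k = z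
    · exact hkz ▸ hz
    · refine hl ?_
      rw [hS, Finset.mem_sdiff]
      exact ⟨Finset.mem_univ _, fun hk' => by simpa [hkz] using Finset.mem_sdiff.mp hk |>.2 |> fun h => h (by
        simpa [hkz] using hsub' hk')⟩
  have hout : a ∉ d.toLeft ∧ b ∉ d.toLeft ∧ c ∉ d.toLeft := by
    refine ⟨fun h => hq3 ?_, fun h => hq2 ?_, fun h => hq1 ?_⟩
    · exact (mate_eq hC hA hbc hq0 hd (hsubpair h (by simp [Finset.insert_subset_iff])) hp' hq').symm
    · exact (mate_eq hC hA hac hq0 hd (hsubpair h (by simp [Finset.insert_subset_iff])) hp' hq').symm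
    · exact (mate_eq hC hA hab hq0 hd (hsubpair h (by simp [Finset.insert_subset_iff])) hp' hq').symm
  have hL : d.toLeft = S := by
    refine (Finset.Subset.antisymm hl fun k hk => ?_).symm
    rw [hS, Finset.mem_sdiff]
    refine ⟨Finset.mem_univ _, fun hk' => ?_⟩
    simp only [Finset.mem_insert, Finset.mem_singleton] at hk'
    rcases hk' with rfl | rfl | rfl
    · exact hout.1 hk
    · exact hout.2.1 hk
    · exact hout.2.2 hk
  have hav : ∀ u ∈ d.toRight, ∀ v ∈ d.toRight, u ≠ v → ∀ x y, x ≠ y → x ∈ ({a, b, c} : Finset (Fin 6)) →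
      y ∈ ({a, b, c} : Finset (Fin 6)) → mate C x y u ≠ v := by
    intro u hu v hv huv x y hxy hx hy e
    obtain ⟨hne, e', he', hel, her⟩ := mate_spec hC hA hxy u
    have hde : d = e' := eq_of_common hC hd he' S {u, v} (by rw [Finset.card_pair huv, hS3]) hl
      (by simp [Finset.insert_subset_iff, hu, hv])
      (by
        rw [hel, hS]
        exact Finset.sdiff_subset_sdiff subset_rfl (by simp [Finset.insert_subset_iff] at hx hy ⊢; tauto))
      (by rw [her, e])
    have := congrArg Finset.card (congrArg Finset.toLeft hde)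
    rw [hL, hel, compl_pair_card hxy, hS3] at this
    omega
  obtain ⟨r, hr, hr1, hr2⟩ : ∃ r ∈ d.toRight, r ≠ 0 ∧ r ≠ q := by
    by_contra hh
    push Not at hh
    have h1 := Finset.card_le_card (show d.toRight ⊆ {0, q} from fun x hx => by
      rw [Finset.mem_insert, Finset.mem_singleton]
      exact or_iff_not_imp_left.mpr (hh x hx))
    rw [Finset.card_pair hq0.symm] at h1
    have h2 := card_left_right hC hd
    rw [hL, hS3] at h2
    omega
  refine ⟨0, q, r, hq0.symm, hr1.symm, hr2.symm, fun x y hxy => ?_⟩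
  obtain ⟨hne, hx, hy⟩ : x ≠ y ∧ x ∈ ({a, b, c} : Finset (Fin 6)) ∧ y ∈ ({a, b, c} : Finset (Fin 6)) := by
    rcases hxy with ⟨rfl, rfl⟩ | ⟨rfl, rfl⟩ | ⟨rfl, rfl⟩ <;> simp [hab, hac, hbc]
  exact ⟨hav _ hp' _ hq' hq0.symm x y hne hx hy, hav _ hp' _ hr hr1.symm x y hne hx hy,
    hav _ hq' _ hr hr2.symm x y hne hx hy⟩

theorem mate_form {i j : Fin 6} (hij : i ≠ j) : ∃ a b, a ≠ b ∧ mate C i j = M0 a b := by
  obtain ⟨a, b, hab, h⟩ := M0_surj (Function.Involutive.toPerm (mate C i j) (mate_mate hC hA hij))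
    fun p => ⟨(mate_spec hC hA hij p).1, mate_mate hC hA hij p⟩
  exact ⟨a, b, hab, funext fun p => (h p).symm⟩

theorem exists_relabel : ∃ φ : Equiv.Perm (Fin 6), ∀ i j, i ≠ j → mate C i j = M0 (φ i) (φ j) := by
  classical
  have hform : ∀ i j, i ≠ j → ∃ s : Finset (Fin 6), s.card = 2 ∧ ∀ a b, s = {a, b} → a ≠ b → mate C i j = M0 a b := by
    intro i j hij
    obtain ⟨a, b, hab, h⟩ := mate_form hC hA hij
    refine ⟨{a, b}, Finset.card_pair hab, fun a' b' he hne => ?_⟩
    have ha : a' = a ∨ a' = b := by simpa using (he.symm ▸ Finset.mem_insert_self a' {b'} : a' ∈ ({a, b} : Finset _))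
    have hb : b' = a ∨ b' = b := by
      simpa using (he.symm ▸ Finset.mem_insert_of_mem (Finset.mem_singleton_self b') : b' ∈ ({a, b} : Finset _))
    rcases ha with rfl | rfl <;> rcases hb with rfl | rfl
    · exact absurd rfl hne
    · exact h
    · exact h.trans (M0_symm _ _)
    · exact absurd rfl hne
  have hfun : ∀ i j, ∃ s : Finset (Fin 6), i ≠ j →
      (s.card = 2 ∧ ∀ a b, s = {a, b} → a ≠ b → mate C i j = M0 a b) := fun i j => by
    by_cases hij : i = j
    · exact ⟨∅, fun h => absurd hij h⟩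
    · obtain ⟨s, hs⟩ := hform i j hij
      exact ⟨s, fun _ => hs⟩
  choose ψ hψ using hfun
  have hcard : ∀ i j, i ≠ j → (ψ i j).card = 2 := fun i j h => (hψ i j h).1
  have hmem : ∀ i j, i ≠ j → ∀ a b, a ∈ ψ i j → b ∈ ψ i j → a ≠ b → mate C i j = M0 a b := fun i j h a b ha hb hab =>
    (hψ i j h).2 a b (Finset.eq_of_subset_of_card_le (by simp [Finset.insert_subset_iff, ha, hb])
      (by rw [hcard i j h, Finset.card_pair hab])).symm hab
  have hinter : ∀ i j k, i ≠ j → i ≠ k → j ≠ k → (ψ i j ∩ ψ i k).card = 1 := by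
    intro i j k hij hik hjk
    obtain ⟨a, b, hab, he⟩ := Finset.card_eq_two.mp (hcard i j hij)
    obtain ⟨c, d, hcd, he'⟩ := Finset.card_eq_two.mp (hcard i k hik)
    rw [he, he']
    refine M0_disjoint a b hab c d hcd fun p => ?_
    rw [← (hψ i j hij).2 a b he hab, ← (hψ i k hik).2 c d he' hcd]
    exact mate_disjoint hC hA hij hik hjk p
  have hsym : ∀ i j, i ≠ j → ψ i j = ψ j i := by
    intro i j hij
    obtain ⟨a, b, hab, he⟩ := Finset.card_eq_two.mp (hcard i j hij)
    obtain ⟨c, d, hcd, he'⟩ := Finset.card_eq_two.mp (hcard j i hij.symm)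
    by_contra hne
    have h1 := (hψ i j hij).2 a b he hab
    rw [mate_comm hC hA hij, (hψ j i hij.symm).2 c d he' hcd] at h1
    exact hne (he.trans ((by decide +kernel : ∀ a b c d : Fin 6, a ≠ b → c ≠ d → M0 c d = M0 a b →
      ({a, b} : Finset (Fin 6)) = {c, d}) a b c d hab hcd h1 |>.trans he'.symm))
  have hcentre : ∀ i, ∃ a, ∀ j, j ≠ i → a ∈ ψ i j := by
    intro i
    obtain ⟨j, hj⟩ : ∃ j, j ≠ i := exists_ne i
    obtain ⟨k, hki, hkj⟩ := (by decide : ∀ i j : Fin 6, ∃ k, k ≠ i ∧ k ≠ j) i j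
    obtain ⟨a, ha⟩ := Finset.card_eq_one.mp (hinter i j k hj.symm hki.symm hkj.symm)
    have ha' := Finset.mem_inter.mp (ha.symm ▸ Finset.mem_singleton_self a)
    refine ⟨a, fun l hl => ?_⟩
    by_contra hal
    have hlj : l ≠ j := fun e => hal (e ▸ ha'.1)
    have hlk : l ≠ k := fun e => hal (e ▸ ha'.2)
    obtain ⟨m, hmi, hmj, hmk, hml⟩ := exists_fourth i j k l
    obtain ⟨b, hba, hb⟩ : ∃ b, b ≠ a ∧ ψ i j = {a, b} := by
      obtain ⟨b, hb, hba⟩ := Finset.exists_mem_ne (show 1 < (ψ i j).card by rw [hcard i j hj.symm]; omega) a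
      exact ⟨b, hba, (Finset.eq_of_subset_of_card_le (by simp [Finset.insert_subset_iff, ha'.1, hb])
        (by rw [hcard i j hj.symm, Finset.card_pair hba.symm])).symm⟩
    obtain ⟨c, hca, hc⟩ : ∃ c, c ≠ a ∧ ψ i k = {a, c} := by
      obtain ⟨c, hc, hca⟩ := Finset.exists_mem_ne (show 1 < (ψ i k).card by rw [hcard i k hki.symm]; omega) a
      exact ⟨c, hca, (Finset.eq_of_subset_of_card_le (by simp [Finset.insert_subset_iff, ha'.2, hc])
        (by rw [hcard i k hki.symm, Finset.card_pair hca.symm])).symm⟩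
    have hbc : b ≠ c := fun e => by
      have := hinter i j k hj.symm hki.symm hkj.symm
      rw [hb, hc, e, Finset.inter_self, Finset.card_pair hca.symm] at this
      omega
    have meetPairs : ∀ x, x ≠ i → x ≠ j → x ≠ k → a ∉ ψ i x → ψ i x = {b, c} := by
      intro x hxi hxj hxk hax
      obtain ⟨u, hu⟩ := Finset.card_eq_one.mp (hinter i x j hxi.symm hj.symm hxj)
      obtain ⟨v, hv⟩ := Finset.card_eq_one.mp (hinter i x k hxi.symm hki.symm hxk)
      have hu' := Finset.mem_inter.mp (hu.symm ▸ Finset.mem_singleton_self u)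
      have hv' := Finset.mem_inter.mp (hv.symm ▸ Finset.mem_singleton_self v)
      rw [hb, Finset.mem_insert, Finset.mem_singleton] at hu'
      rw [hc, Finset.mem_insert, Finset.mem_singleton] at hv'
      have e1 : b ∈ ψ i x := (hu'.2.resolve_left fun e => hax (e ▸ hu'.1)) ▸ hu'.1
      have e2 : c ∈ ψ i x := (hv'.2.resolve_left fun e => hax (e ▸ hv'.1)) ▸ hv'.1
      exact (Finset.eq_of_subset_of_card_le (by simp [Finset.insert_subset_iff, e1, e2])
        (by rw [hcard i x hxi.symm, Finset.card_pair hbc])).symm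
    have hlb := meetPairs l hl hlj hlk hal
    by_cases ham : a ∈ ψ i m
    · obtain ⟨w, hw⟩ := Finset.card_eq_one.mp (hinter i m l hmi.symm hl.symm hml)
      have hw' := Finset.mem_inter.mp (hw.symm ▸ Finset.mem_singleton_self w)
      rw [hlb, Finset.mem_insert, Finset.mem_singleton] at hw'
      rcases hw'.2 with rfl | rfl
      · have := hinter i m j hmi.symm hj.symm hmj
        rw [hb, show ψ i m ∩ {a, w} = {a, w} from Finset.inter_eq_right.mpr
          (by simp [Finset.insert_subset_iff, ham, hw'.1]), Finset.card_pair hba.symm] at this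
        omega
      · have := hinter i m k hmi.symm hki.symm hmk
        rw [hc, show ψ i m ∩ {a, w} = {a, w} from Finset.inter_eq_right.mpr
          (by simp [Finset.insert_subset_iff, ham, hw'.1]), Finset.card_pair hca.symm] at this
        omega
    · have := hinter i m l hmi.symm hl.symm hml
      rw [meetPairs m hmi hmj hmk ham, hlb, Finset.inter_self, Finset.card_pair hbc] at this
      omega
  choose φ hφ using hcentre
  have hinj : Function.Injective φ := by
    intro i j he
    by_contra hij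
    obtain ⟨k, hki, hkj⟩ := (by decide : ∀ i j : Fin 6, ∃ k, k ≠ i ∧ k ≠ j) i j
    have m1 : φ i ∈ ψ i j := hφ i j (Ne.symm hij)
    have m2 : φ i ∈ ψ i k := hφ i k hki
    have m3 : φ i ∈ ψ j k := he ▸ hφ j k hkj
    obtain ⟨b, hb, hb'⟩ := Finset.exists_mem_ne (show 1 < (ψ i j).card by rw [hcard i j hij]; omega) (φ i)
    obtain ⟨c, hc, hc'⟩ := Finset.exists_mem_ne (show 1 < (ψ i k).card by rw [hcard i k hki.symm]; omega) (φ i)
    obtain ⟨d, hd, hd'⟩ := Finset.exists_mem_ne (show 1 < (ψ j k).card by rw [hcard j k hkj.symm]; omega) (φ i)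
    have hbc : b ≠ c := fun e => by
      have h1 : ({φ i, b} : Finset (Fin 6)) ⊆ ψ i j ∩ ψ i k := by
        simp [Finset.insert_subset_iff, m1, m2, hb, e ▸ hc]
      have := Finset.card_le_card h1
      rw [Finset.card_pair hb'.symm, hinter i j k hij hki.symm hkj.symm] at this
      omega
    have hbd : b ≠ d := fun e => by
      have h1 : ({φ i, b} : Finset (Fin 6)) ⊆ ψ j i ∩ ψ j k := by
        simp [Finset.insert_subset_iff, ← hsym i j hij, m1, m3, hb, e ▸ hd]
      have := Finset.card_le_card h1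
      rw [Finset.card_pair hb'.symm, hinter j i k (Ne.symm hij) hkj.symm hki.symm] at this
      omega
    have hcd : c ≠ d := fun e => by
      have h1 : ({φ i, c} : Finset (Fin 6)) ⊆ ψ k i ∩ ψ k j := by
        simp [Finset.insert_subset_iff, ← hsym i k hki.symm, ← hsym j k hkj.symm, m2, m3, hc, e ▸ hd]
      have := Finset.card_le_card h1
      rw [Finset.card_pair hc'.symm, hinter k i j hki hkj hij] at this
      omega
    obtain ⟨p, q, r, hpq, hpr, hqr, hfree⟩ := mate_triangle hC hA hij hki.symm hkj.symm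
    refine star_triangle hb' hc' hd' hbc hbd hcd hpq hpr hqr fun x hx => ?_
    rcases hx with rfl | rfl | rfl
    · rw [← hmem i j hij (φ i) x m1 hb hb'.symm]; exact hfree i j (Or.inl ⟨rfl, rfl⟩)
    · rw [← hmem i k hki.symm (φ i) x m2 hc hc'.symm]; exact hfree i k (Or.inr (Or.inl ⟨rfl, rfl⟩))
    · rw [← hmem j k hkj.symm (φ i) x m3 hd hd'.symm]; exact hfree j k (Or.inr (Or.inr ⟨rfl, rfl⟩))
  refine ⟨Equiv.ofBijective φ (Finite.injective_iff_bijective.mp hinj), fun i j hij => ?_⟩
  exact hmem i j hij (φ i) (φ j) (hφ i j (Ne.symm hij)) (hsym i j hij ▸ hφ j i hij) (hinj.ne hij)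

end Mate

/-- The pulled back family. -/
def pull {α β : Type*} [DecidableEq β] (e : α ≃ β) (B : Set (Finset β)) : Set (Finset α) := {s | s.image e ∈ B}

theorem pull_steiner {α β : Type*} [DecidableEq α] [DecidableEq β] (e : α ≃ β) {B : Set (Finset β)} {t k : ℕ}
    (hB : IsSteinerSystem t k B) : IsSteinerSystem t k (pull e B) := by
  refine ⟨fun s hs => by rw [← hB.1 _ hs, Finset.card_image_of_injective _ e.injective], fun s hs => ?_⟩
  obtain ⟨b, ⟨hb, hsb⟩, hu⟩ := hB.2 (s.image e) (by rw [Finset.card_image_of_injective _ e.injective, hs])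
  have hbb : (b.image e.symm).image e = b := by
    rw [Finset.image_image]; simp
  refine ⟨b.image e.symm, ⟨by show _ ∈ B; rw [hbb]; exact hb, fun x hx => ?_⟩, ?_⟩
  · exact Finset.mem_image.mpr ⟨e x, hsb (Finset.mem_image_of_mem e hx), e.symm_apply_apply x⟩
  · rintro c ⟨hc, hsc⟩
    rw [← hu (c.image e) ⟨hc, Finset.image_subset_image hsc⟩, Finset.image_image]
    simp

theorem pull_pull {α β γ : Type*} [DecidableEq β] [DecidableEq γ] (e : α ≃ β) (f : β ≃ γ) (B : Set (Finset γ)) :
    pull e (pull f B) = pull (e.trans f) B := by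
  ext s
  simp [pull, Finset.image_image, Function.comp_def]

theorem normalise (hC : IsSteinerSystem 5 6 C) (hA : A0 ∈ C) :
    ∃ ψ : Equiv.Perm (Fin 6), Std (pull (Equiv.sumCongr ψ (Equiv.refl (Fin 6))) C) := by
  obtain ⟨φ, hφ⟩ := exists_relabel hC hA
  refine ⟨φ.symm, pull_steiner _ hC, ?_, fun i j hij p => ?_⟩
  · show A0.image _ ∈ C
    convert hA using 1
    ext z
    rcases z with k | k <;> simp [A0, Finset.mem_image]
    exact φ.symm.surjective k
  · have hne : φ.symm i ≠ φ.symm j := φ.symm.injective.ne hij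
    obtain ⟨-, d, hd, hl, hr⟩ := mate_spec hC hA hne p
    rw [hφ _ _ hne, Equiv.apply_symm_apply, Equiv.apply_symm_apply] at hr
    show (hex4 i j p).image _ ∈ C
    convert hd using 1
    ext z
    rcases z with k | k
    · rw [← Finset.mem_toLeft (u := d), hl]
      simp [hex4, Equiv.symm_apply_eq, Equiv.eq_symm_apply]
    · rw [← Finset.mem_toRight (u := d), hr]
      simp [hex4]

theorem rigid (h : Std C) (g : Equiv.Perm P) (hg : ∀ d ∈ C, d.image g ∈ C)
    (hfix : ∀ k, g (Sum.inl k) = Sum.inl k) : g = 1 := by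
  have hr : ∀ p, ∃ q, g (Sum.inr p) = Sum.inr q := fun p => by
    rcases he : g (Sum.inr p) with k | q
    · exact absurd (g.injective (he.trans (hfix k).symm)) (by simp)
    · exact ⟨q, rfl⟩
  choose σ hσ using hr
  have hinj : Function.Injective σ := fun p q e =>
    Sum.inr_injective (g.injective ((hσ p).trans ((congrArg Sum.inr e).trans (hσ q).symm)))
  have key : ∀ a b, a ≠ b → ∀ p, M0 a b (σ p) = σ (M0 a b p) := by
    intro a b hab p
    have hd := hg _ (h.quad a b hab p)
    have hmem : ∀ z ∈ ({p, M0 a b p} : Finset (Fin 6)), σ z ∈ ((hex4 a b p).image g).toRight := fun z hz =>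
      Finset.mem_toRight.mpr (Finset.mem_image.mpr ⟨Sum.inr z, Finset.inr_mem_disjSum.mpr hz, hσ z⟩)
    have he : (hex4 a b p).image g = hex4 a b (σ p) :=
      eq_of_common h.steiner hd (h.quad a b hab (σ p)) (Finset.univ \ {a, b}) {σ p}
        (by rw [compl_pair_card hab]; rfl)
        (fun k hk => Finset.mem_toLeft.mpr (Finset.mem_image.mpr ⟨Sum.inl k, Finset.inl_mem_disjSum.mpr hk, hfix k⟩))
        (Finset.singleton_subset_iff.mpr (hmem p (by simp))) (hex4_left a b (σ p)).ge (by rw [hex4_right]; simp)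
    have hq := hmem (M0 a b p) (by simp)
    rw [he, hex4_right, Finset.mem_insert, Finset.mem_singleton] at hq
    exact (hq.resolve_left fun e => (M0_spec a b hab p).1 (hinj e)).symm
  have hσ1 := M0_centre (Equiv.ofBijective σ (Finite.injective_iff_bijective.mp hinj)) key
  refine Equiv.ext fun z => ?_
  rcases z with k | p
  · exact hfix k
  · rw [hσ p, show σ p = p from Equiv.congr_fun hσ1 p]
    rfl

section Labelled

variable {α : Type*} [Fintype α] [DecidableEq α] (hα : Fintype.card α = 12) {B : Set (Finset α)}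
  (hB : IsSteinerSystem 5 6 B)
include hB

omit [Fintype α] in
theorem label_unique {e e' : P ≃ α} (h : Std (pull e B)) (h' : Std (pull e' B))
    (hl : ∀ k, e (Sum.inl k) = e' (Sum.inl k)) : e = e' := by
  have hEq : pull e B = pull e' B := h.unique h'
  have hg : e'.trans e.symm = 1 := by
    refine rigid h _ (fun d hd => ?_) fun k => ?_
    · show (d.image (e'.trans e.symm)).image e ∈ B
      rw [hEq] at hd
      rw [Finset.image_image]
      simpa [Function.comp_def] using (show d.image e' ∈ B from hd)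
    · simp [← hl k]
  refine Equiv.ext fun z => ?_
  have h1 : e.symm (e' z) = z := Equiv.congr_fun hg z
  exact (e.symm_apply_eq.mp h1).symm

include hα

theorem exists_label {H : Finset α} (hH : H ∈ B) (a : Fin 6 → α) (ha : Function.Injective a)
    (hm : ∀ k, a k ∈ H) : ∃ e : P ≃ α, Std (pull e B) ∧ ∀ k, e (Sum.inl k) = a k := by
  have hc : (Hᶜ).card = 6 := by rw [Finset.card_compl, hB.1 H hH, hα]
  let b : Fin 6 → α := fun k => ((Hᶜ).equivFinOfCardEq hc).symm k
  have hb : ∀ k, b k ∉ H := fun k => Finset.mem_compl.mp (((Hᶜ).equivFinOfCardEq hc).symm k).2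
  have hinj : Function.Injective (Sum.elim a b) :=
    ha.sumElim (Subtype.val_injective.comp ((Hᶜ).equivFinOfCardEq hc).symm.injective)
      fun i j e => hb j (e ▸ hm i)
  let e0 : P ≃ α := Equiv.ofBijective (Sum.elim a b)
    ((Fintype.bijective_iff_injective_and_card _).mpr ⟨hinj, card_P.trans hα.symm⟩)
  have himg : A0.image e0 = H := by
    refine Finset.eq_of_subset_of_card_le (fun x hx => ?_) ?_
    · obtain ⟨z, hz, rfl⟩ := Finset.mem_image.mp hx
      rcases z with k | k
      · exact hm k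
      · simp [A0] at hz
    · rw [Finset.card_image_of_injective _ e0.injective, hB.1 H hH]; rfl
  have hex : ∀ τ : Equiv.Perm (Fin 6), ∃ ψ : Equiv.Perm (Fin 6), Std (pull ((Equiv.sumCongr ψ τ).trans e0) B) := by
    intro τ
    obtain ⟨ψ, hψ⟩ := normalise (pull_steiner ((Equiv.sumCongr (Equiv.refl (Fin 6)) τ).trans e0) hB) (by
      show A0.image _ ∈ B
      convert hH using 1
      rw [← himg]
      ext x
      simp [A0, Finset.mem_image])
    refine ⟨ψ, ?_⟩
    rw [pull_pull] at hψ
    convert hψ using 2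
    ext z
    rcases z with k | k <;> simp
  choose Ψ hΨ using hex
  have hΨinj : Function.Injective Ψ := by
    intro τ τ' he
    have := label_unique hB (hΨ τ) (hΨ τ') fun k => by simp [he]
    refine Equiv.ext fun p => ?_
    have h2 : (Sum.inr (τ p) : P) = Sum.inr (τ' p) :=
      e0.injective (by simpa using Equiv.congr_fun this (Sum.inr p))
    exact Sum.inr_injective h2
  obtain ⟨τ, hτ⟩ := Finite.injective_iff_surjective.mp hΨinj 1
  exact ⟨_, hΨ τ, fun k => by simp [hτ, e0]⟩

end Labelled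

/-- A five-point map extends to exactly one isomorphism of systems. -/
theorem extend_unique {α β : Type*} [Fintype α] [DecidableEq α] [Fintype β] [DecidableEq β]
    (hα : Fintype.card α = 12) (hβ : Fintype.card β = 12) {B : Set (Finset α)} {B' : Set (Finset β)}
    (hB : IsSteinerSystem 5 6 B) (hB' : IsSteinerSystem 5 6 B') (x : Fin 5 ↪ α) (y : Fin 5 ↪ β) :
    ∃! ι : α ≃ β, (fun b => b.image ι) '' B = B' ∧ ∀ i, ι (x i) = y i := by
  obtain ⟨H, ⟨hH, hxH⟩, -⟩ := hB.2 (Finset.univ.map x) (by simp)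
  obtain ⟨H', ⟨hH', hyH⟩, hu'⟩ := hB'.2 (Finset.univ.map y) (by simp)
  obtain ⟨x6, hx6⟩ := Finset.card_eq_one.mp (show (H \ Finset.univ.map x).card = 1 by
    rw [Finset.card_sdiff_of_subset hxH, hB.1 H hH, Finset.card_map]; rfl)
  obtain ⟨y6, hy6⟩ := Finset.card_eq_one.mp (show (H' \ Finset.univ.map y).card = 1 by
    rw [Finset.card_sdiff_of_subset hyH, hB'.1 H' hH', Finset.card_map]; rfl)
  have hx6' := Finset.mem_sdiff.mp (hx6.symm ▸ Finset.mem_singleton_self x6)
  have hy6' := Finset.mem_sdiff.mp (hy6.symm ▸ Finset.mem_singleton_self y6)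
  obtain ⟨e, he, hea⟩ := exists_label hα hB hH (Fin.snoc (fun i => x i) x6)
    (Fin.snoc_injective_iff.mpr ⟨x.injective, by simpa using hx6'.2⟩)
    (Fin.lastCases (by rw [Fin.snoc_last]; exact hx6'.1) fun i => by
      rw [Fin.snoc_castSucc]; exact hxH (Finset.mem_map_of_mem x (Finset.mem_univ i)))
  obtain ⟨e', he', hea'⟩ := exists_label hβ hB' hH' (Fin.snoc (fun i => y i) y6)
    (Fin.snoc_injective_iff.mpr ⟨y.injective, by simpa using hy6'.2⟩)
    (Fin.lastCases (by rw [Fin.snoc_last]; exact hy6'.1) fun i => by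
      rw [Fin.snoc_castSucc]; exact hyH (Finset.mem_map_of_mem y (Finset.mem_univ i)))
  have hEq : pull e B = pull e' B' := he.unique he'
  have hiff : ∀ b : Finset α, b.image (e.symm.trans e') ∈ B' ↔ b ∈ B := fun b => by
    have := Set.ext_iff.mp hEq (b.image e.symm)
    simpa [pull, Finset.image_image, Function.comp_def] using this.symm
  refine ⟨e.symm.trans e', ⟨?_, fun i => ?_⟩, ?_⟩
  · ext c
    constructor
    · rintro ⟨b, hb, rfl⟩; exact (hiff b).mpr hb
    · intro hc
      refine ⟨c.image (e.symm.trans e').symm, (hiff _).mp ?_, ?_⟩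
      · simpa [Finset.image_image, Function.comp_def] using hc
      · simp [Finset.image_image, Function.comp_def]
  · have h1 := hea i.castSucc
    rw [Fin.snoc_castSucc] at h1
    rw [Equiv.trans_apply, (e.symm_apply_eq).mpr h1.symm, hea', Fin.snoc_castSucc]
  · rintro ι ⟨hι, hιx⟩
    have hsame : pull (e.trans ι) B' = pull e B := by
      ext s
      show s.image (e.trans ι) ∈ B' ↔ s.image e ∈ B
      rw [← hι]
      constructor
      · rintro ⟨b, hb, hbe⟩
        have hbe' : b = s.image e := Finset.image_injective ι.injective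
          (hbe.trans (by simp [Finset.image_image, Function.comp_def]))
        rwa [← hbe']
      · intro hs
        exact ⟨_, hs, by simp [Finset.image_image, Function.comp_def]⟩
    have h6 : ι x6 = y6 := by
      have hHimg : H.image ι = H' := hu' _ ⟨hι ▸ ⟨H, hH, rfl⟩, fun z hz => by
        obtain ⟨i, -, rfl⟩ := Finset.mem_map.mp hz
        exact Finset.mem_image.mpr ⟨x i, hxH (Finset.mem_map_of_mem x (Finset.mem_univ i)), hιx i⟩⟩
      have hmem : ι x6 ∈ H' \ Finset.univ.map y := by
        refine Finset.mem_sdiff.mpr ⟨hHimg ▸ Finset.mem_image_of_mem ι hx6'.1, fun hz => ?_⟩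
        obtain ⟨i, -, hi⟩ := Finset.mem_map.mp hz
        exact hx6'.2 (ι.injective ((hιx i).trans hi) ▸ Finset.mem_map_of_mem x (Finset.mem_univ i))
      rwa [hy6, Finset.mem_singleton] at hmem
    have := label_unique hB' (e := e.trans ι) (e' := e') (hsame ▸ he) he' fun k => by
      refine Fin.lastCases ?_ (fun i => ?_) k
      · rw [Equiv.trans_apply, hea, hea', Fin.snoc_last, Fin.snoc_last, h6]
      · rw [Equiv.trans_apply, hea, hea', Fin.snoc_castSucc, Fin.snoc_castSucc, hιx]
    rw [← this]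
    ext z
    simp

end CfsgTwelve
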