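/-
The automorphism groups of the systems S(5,6,12) and S(4,5,11).
-/
import Cfsg.Agent.Lib.SteinerTwelve.System
import Cfsg.Agent.Lib.SteinerTwelve.Sharp

set_option autoImplicit false

namespace CfsgTwelve

open Cfsg CfsgSteiner
open scoped Pointwise

variable {α β : Type*} [Fintype α] [DecidableEq α] [Fintype β] [DecidableEq β]

omit [Fintype α] in
theorem mem_aut {B : Set (Finset α)} {g : Equiv.Perm α} :
    g ∈ setSystemAut B ↔ (fun b => b.image g) '' B = B := MulAction.mem_stabilizer_iff

theorem group_of_extend {k : ℕ} {B : Set (Finset α)}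
    (h : ∀ x y : Fin k ↪ α, ∃! ι : α ≃ α, (fun b => b.image ι) '' B = B ∧ ∀ i, ι (x i) = y i) :
    MulAction.IsMultiplyPretransitive (setSystemAut B) α k ∧
      ∀ x : Fin k ↪ α, MulAction.stabilizer (setSystemAut B) x = ⊥ := by
  refine ⟨MulAction.isMultiplyPretransitive_iff.mpr fun x y => ?_, fun x => ?_⟩
  · obtain ⟨ι, ⟨h1, h2⟩, -⟩ := h x y
    exact ⟨⟨ι, mem_aut.mpr h1⟩, Function.Embedding.ext h2⟩
  · rw [eq_bot_iff]
    intro g hg
    rw [Subgroup.mem_bot]
    obtain ⟨ι, -, hu⟩ := h x x
    have h1 : (g : Equiv.Perm α) = ι := hu _ ⟨mem_aut.mp g.2,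
      fun i => congrArg (fun z : Fin k ↪ α => z i) (MulAction.mem_stabilizer_iff.mp hg)⟩
    have h2 : (1 : Equiv.Perm α) = ι := hu _ ⟨mem_aut.mp (one_mem _), fun i => rfl⟩
    exact Subtype.ext (h1.trans h2.symm)

/-- The extension of a system on eleven points by one further point. -/
def ext11 (B : Set (Finset α)) : Set (Finset (Option α)) :=
  {c | ∃ b ∈ B, c = Finset.insertNone b ∨ c = bᶜ.map Function.Embedding.some}

theorem zero_or_five (hα : Fintype.card α = 11) {B : Set (Finset α)} (hB : IsSteinerSystem 4 5 B)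
    {t : Finset α} (ht : t.card = 5) :
    ∃! b, b ∈ B ∧ ((b ∩ t).card = 0 ∨ (b ∩ t).card = 5) := by
  have key := fun (i L : ℕ) (hi : i ≤ 4) (hL : L * Nat.choose (5 - i) (4 - i) = Nat.choose (11 - i) (4 - i)) =>
    (moment_grouped ((blocks B).filter ((∅ : Finset α) ⊆ ·)) t i 6 (fun d _ => by
      have := Finset.card_le_card (Finset.inter_subset_right : d ∩ t ⊆ t)
      omega)).symm.trans
      (moment hB hα (by norm_num) (S := ∅) (A := t) (Finset.disjoint_empty_left _) (i := i) (L := L)
        (by simpa using hi) (by simpa using hL))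
  have e0 := key 0 66 (by norm_num) (by decide)
  have e1 := key 1 30 (by norm_num) (by decide)
  have e2 := key 2 12 (by norm_num) (by decide)
  have e3 := key 3 4 (by norm_num) (by decide)
  have e4 := key 4 1 (by norm_num) (by decide)
  simp [-Finset.card_eq_zero, Finset.sum_range_succ, ht, Nat.choose_eq_descFactorial_div_factorial,
    Nat.descFactorial, Nat.factorial] at e0 e1 e2 e3 e4
  have h1 : ((blocks B).filter fun d => (d ∩ t).card = 0 ∨ (d ∩ t).card = 5).card = 1 := by
    rw [Finset.filter_or, Finset.card_union_of_disjoint (Finset.disjoint_filter.mpr fun _ _ h h' => by omega)]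
    omega
  obtain ⟨b, hb⟩ := Finset.card_eq_one.mp h1
  have hmem : ∀ d, (d ∈ B ∧ ((d ∩ t).card = 0 ∨ (d ∩ t).card = 5)) ↔ d = b := fun d => by
    have h2 := Finset.ext_iff.mp hb d
    rw [Finset.mem_filter, mem_blocks, Finset.mem_singleton] at h2
    exact h2
  exact ⟨b, (hmem b).mpr rfl, fun d hd => (hmem d).mp hd⟩

theorem ext11_steiner (hα : Fintype.card α = 11) {B : Set (Finset α)} (hB : IsSteinerSystem 4 5 B) :
    IsSteinerSystem 5 6 (ext11 B) := by
  refine ⟨?_, fun s hs => ?_⟩
  · rintro c ⟨b, hb, rfl | rfl⟩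
    · rw [Finset.card_insertNone, hB.1 b hb]
    · rw [Finset.card_map, Finset.card_compl, hB.1 b hb, hα]
  by_cases hn : none ∈ s
  · have h4 : (Finset.eraseNone s).card = 4 := by rw [Finset.card_eraseNone_of_mem hn, hs]
    obtain ⟨b, ⟨hb, hsb⟩, hu⟩ := hB.2 _ h4
    refine ⟨Finset.insertNone b, ⟨⟨b, hb, Or.inl rfl⟩, fun x hx => ?_⟩, ?_⟩
    · rcases x with _ | a
      · simp
      · exact Finset.some_mem_insertNone.mpr (hsb (Finset.mem_eraseNone.mpr hx))
    · rintro c ⟨⟨b', hb', rfl | rfl⟩, hsc⟩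
      · rw [hu b' ⟨hb', fun a ha => Finset.some_mem_insertNone.mp (hsc (Finset.mem_eraseNone.mp ha))⟩]
      · simpa using hsc hn
  · have h5 : (Finset.eraseNone s).card = 5 := by rw [Finset.card_eraseNone_of_not_mem hn, hs]
    obtain ⟨b, ⟨hb, hcase⟩, hu⟩ := zero_or_five hα hB h5
    have hsome : ∀ c : Finset (Option α), s ⊆ c ↔ ∀ a ∈ Finset.eraseNone s, some a ∈ c := fun c =>
      ⟨fun h a ha => h (Finset.mem_eraseNone.mp ha), fun h x hx => by
        rcases x with _ | a
        · exact absurd hx hn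
        · exact h a (Finset.mem_eraseNone.mpr hx)⟩
    have hin : ∀ b' ∈ B, (s ⊆ Finset.insertNone b' ↔ (b' ∩ Finset.eraseNone s).card = 5) ∧
        (s ⊆ b'ᶜ.map Function.Embedding.some ↔ (b' ∩ Finset.eraseNone s).card = 0) := by
      intro b' hb'
      refine ⟨?_, ?_⟩
      · rw [hsome]
        simp only [Finset.some_mem_insertNone]
        constructor
        · intro h; rw [Finset.inter_eq_right.mpr h, h5]
        · intro h a ha
          have he := Finset.eq_of_subset_of_card_le
            (Finset.inter_subset_right : b' ∩ Finset.eraseNone s ⊆ Finset.eraseNone s) (by omega)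
          exact (Finset.mem_inter.mp (he.symm ▸ ha)).1
      · rw [hsome, Finset.card_eq_zero, ← Finset.disjoint_iff_inter_eq_empty, Finset.disjoint_right]
        simp
    rcases hcase with h0 | h0
    · refine ⟨bᶜ.map Function.Embedding.some, ⟨⟨b, hb, Or.inr rfl⟩, (hin b hb).2.mpr h0⟩, ?_⟩
      rintro c ⟨⟨b', hb', rfl | rfl⟩, hsc⟩
      · rw [hu b' ⟨hb', Or.inr ((hin b' hb').1.mp hsc)⟩, (hin b hb).1] at hsc
        omega
      · rw [hu b' ⟨hb', Or.inl ((hin b' hb').2.mp hsc)⟩]
    · refine ⟨Finset.insertNone b, ⟨⟨b, hb, Or.inl rfl⟩, (hin b hb).1.mpr h0⟩, ?_⟩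
      rintro c ⟨⟨b', hb', rfl | rfl⟩, hsc⟩
      · rw [hu b' ⟨hb', Or.inr ((hin b' hb').1.mp hsc)⟩]
      · rw [hu b' ⟨hb', Or.inl ((hin b' hb').2.mp hsc)⟩, (hin b hb).2] at hsc
        omega

omit [Fintype α] [Fintype β] in
theorem image_insertNone (ι : α ≃ β) (b : Finset α) :
    (Finset.insertNone b).image (Equiv.optionCongr ι) = Finset.insertNone (b.image ι) := by
  ext x
  rcases x with _ | y <;> simp [Finset.mem_image, Option.exists]

omit [Fintype α] [Fintype β] in
theorem image_someMap (ι : α ≃ β) (b : Finset α) :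
    (b.map Function.Embedding.some).image (Equiv.optionCongr ι) = (b.image ι).map Function.Embedding.some := by
  ext x
  rcases x with _ | y <;> simp [Finset.mem_image, Option.exists]

theorem image_compl_equiv (ι : α ≃ β) (b : Finset α) : bᶜ.image ι = (b.image ι)ᶜ := by
  ext y
  obtain ⟨x, rfl⟩ := ι.surjective y
  simp

theorem mem_ext11_iff {B : Set (Finset α)} {b : Finset α} : Finset.insertNone b ∈ ext11 B ↔ b ∈ B := by
  refine ⟨?_, fun h => ⟨b, h, Or.inl rfl⟩⟩
  rintro ⟨b', hb', e | e⟩
  · rwa [Finset.insertNone.injective e]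
  · have h := e.symm ▸ Finset.none_mem_insertNone (s := b)
    simp at h

theorem extend_unique11 (hα : Fintype.card α = 11) (hβ : Fintype.card β = 11) {B : Set (Finset α)}
    {B' : Set (Finset β)} (hB : IsSteinerSystem 4 5 B) (hB' : IsSteinerSystem 4 5 B') (x : Fin 4 ↪ α)
    (y : Fin 4 ↪ β) : ∃! ι : α ≃ β, (fun b => b.image ι) '' B = B' ∧ ∀ i, ι (x i) = y i := by
  let x' : Fin 5 ↪ Option α := ⟨Fin.cons none fun i => some (x i),
    Fin.cons_injective_iff.mpr ⟨by simp, (Option.some_injective α).comp x.injective⟩⟩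
  let y' : Fin 5 ↪ Option β := ⟨Fin.cons none fun i => some (y i),
    Fin.cons_injective_iff.mpr ⟨by simp, (Option.some_injective β).comp y.injective⟩⟩
  obtain ⟨e, ⟨he, hex⟩, hu⟩ := extend_unique (by rw [Fintype.card_option, hα]) (by rw [Fintype.card_option, hβ])
    (ext11_steiner hα hB) (ext11_steiner hβ hB') x' y'
  have hnone : e none = none := hex 0
  set ι := Equiv.removeNone e with hιdef
  have hι : Equiv.optionCongr ι = e := Equiv.ext fun z => by
    rcases z with _ | a
    · simp [hnone]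
    · obtain ⟨c, hc⟩ : ∃ c, e (some a) = some c := by
        rcases h : e (some a) with _ | c
        · exact absurd (e.injective (h.trans hnone.symm)) (by simp)
        · exact ⟨c, rfl⟩
      simp only [Equiv.optionCongr_apply, Option.map_some, hιdef]
      exact Equiv.removeNone_some e ⟨c, hc⟩
  refine ⟨ι, ⟨?_, fun i => ?_⟩, ?_⟩
  · ext c
    constructor
    · rintro ⟨b, hb, rfl⟩
      rw [← mem_ext11_iff, ← image_insertNone, hι, ← he]
      exact ⟨_, mem_ext11_iff.mpr hb, rfl⟩
    · intro hc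
      refine ⟨c.image ι.symm, ?_, by simp [Finset.image_image]⟩
      obtain ⟨d, hd, hde⟩ : Finset.insertNone c ∈ (fun b => b.image e) '' ext11 B := he ▸ mem_ext11_iff.mpr hc
      have h2 : (Finset.insertNone (c.image ι.symm)).image e = Finset.insertNone c := by
        rw [← hι, image_insertNone, Finset.image_image]
        simp
      rw [← mem_ext11_iff, Finset.image_injective e.injective (h2.trans hde.symm)]
      exact hd
  · have h1 : e (some (x i)) = some (y i) := by
      have := hex i.succ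
      simpa [x', y'] using this
    rw [← hι] at h1
    exact Option.some_injective _ h1
  · rintro ι' ⟨hι', hx'⟩
    have h1 : Equiv.optionCongr ι' = e := by
      refine hu _ ⟨?_, fun i => ?_⟩
      · have hstep : ∀ b, b ∈ B → b.image ι' ∈ B' := fun b hb => hι' ▸ ⟨b, hb, rfl⟩
        ext c
        constructor
        · rintro ⟨d, ⟨b, hb, rfl | rfl⟩, rfl⟩
          · exact ⟨_, hstep b hb, Or.inl (image_insertNone ι' b)⟩
          · refine ⟨_, hstep b hb, Or.inr ?_⟩
            show (bᶜ.map Function.Embedding.some).image _ = _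
            rw [image_someMap, image_compl_equiv ι']
        · rintro ⟨b', hb', hc⟩
          obtain ⟨b, hb, rfl⟩ : b' ∈ (fun b => b.image ι') '' B := hι'.symm ▸ hb'
          rcases hc with rfl | rfl
          · exact ⟨_, ⟨b, hb, Or.inl rfl⟩, image_insertNone ι' b⟩
          · refine ⟨_, ⟨b, hb, Or.inr rfl⟩, ?_⟩
            show (bᶜ.map Function.Embedding.some).image _ = (b.image ι')ᶜ.map _
            rw [image_someMap, image_compl_equiv ι']
      · refine Fin.cases ?_ (fun i => ?_) i
        · simp [x', y']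
        · simp [x', y', hx' i]
    exact Equiv.optionCongr_injective (h1.trans hι.symm)

theorem aut12 (hα : Fintype.card α = 12) {B : Set (Finset α)} (hB : IsSteinerSystem 5 6 B) :
    IsM12 (setSystemAut B) ∧ MulAction.IsMultiplyPretransitive (setSystemAut B) α 5 ∧
      ∀ x : Fin 5 ↪ α, MulAction.stabilizer (setSystemAut B) x = ⊥ := by
  obtain ⟨h1, h2⟩ := group_of_extend (k := 5) (extend_unique hα hα hB hB)
  exact ⟨@isM12_sharp _ _ _ hα _ h1 h2, h1, h2⟩

theorem aut11 (hα : Fintype.card α = 11) {B : Set (Finset α)} (hB : IsSteinerSystem 4 5 B) :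
    IsM11 (setSystemAut B) ∧ MulAction.IsMultiplyPretransitive (setSystemAut B) α 4 ∧
      ∀ x : Fin 4 ↪ α, MulAction.stabilizer (setSystemAut B) x = ⊥ := by
  obtain ⟨h1, h2⟩ := group_of_extend (k := 4) (extend_unique11 hα hα hB hB)
  exact ⟨@isM11_sharp _ _ _ hα _ h1 h2, h1, h2⟩

end CfsgTwelve
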